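import Mathlib
import Cfsg.Prelude.Def_ClassicalGeometry
import Cfsg.Prelude.Def_GeometricClasses
import Cfsg.Agent.Lib.Helper18.T23.H2.SOTDefs
import Cfsg.Agent.Lib.Helper18.T23.H2.SOTGDefs
import Cfsg.Agent.Lib.Helper18.T23.H4.SOTS
import Cfsg.Agent.Lib.Helper7.SpTN
import Cfsg.Agent.Lib.Helper18.T23.H27.SOTLADefs

/-!
S5666 part (LA), leaves (R2a) `stab_blocks` and (R2b) `stab_perp_blocks` of `notes/S5666_LA_leaves.lean`
(exact signatures): the stabiliser of `R = e_o ⊗ B` in `A`-blocks.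
-/

set_option autoImplicit false
set_option linter.unusedSectionVars false
set_option linter.unusedVariables false

namespace Cfsg.Agent.Lib.Helper18.T23.H28.SOTLALeaf
open Matrix
open Cfsg.Agent.Lib.Helper25.Tens Cfsg.Agent.Lib.Helper25.SpT Cfsg.Agent.Lib.Helper19.OSub
open Cfsg.Agent.Lib.Helper18.T23.H2.SOT Cfsg.Agent.Lib.Helper18.T23.H27.SOTLA
open scoped Kronecker

variable {F : Type*} [Field F] [Fintype F] {a b : ℕ} {G : Matrix (Fin b) (Fin b) F}
  {M : Subgroup (GL (Idx a b) F)}

/-- entries of `pt e_o y` -/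
lemma pt_single_left_apply (o i : Fin a) (y : Fin b → F) (k : Fin b) :
    pt (Pi.single o (1 : F)) y (i, k) = if i = o then y k else 0 := by
  simp only [pt, Pi.single_apply]
  split_ifs <;> simp

/-- the stabiliser of `R = e_o ⊗ B` acts on `R` through the block `(o,o)`; the other blocks of column `o` vanish -/
lemma stab_col {o : Fin a} (X : Matrix (Idx a b) (Idx a b) F)
    (hX : ∀ y : Fin b → F, ∃ y' : Fin b → F, X *ᵥ pt (Pi.single o 1) y = pt (Pi.single o 1) y') :
    (∀ i : Fin a, i ≠ o → ablk X i o = 0) ∧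
    ∀ y : Fin b → F, X *ᵥ pt (Pi.single o 1) y = pt (Pi.single o 1) (ablk X o o *ᵥ y) := by
  have key : ∀ (y : Fin b → F) (i : Fin a) (k : Fin b), ∀ y' : Fin b → F,
      X *ᵥ pt (Pi.single o 1) y = pt (Pi.single o 1) y' →
      (ablk X i o *ᵥ y) k = if i = o then y' k else 0 := by
    intro y i k y' hy'
    have := congrFun hy' (i, k)
    rw [mulVec_pt_single_left, pt_single_left_apply] at this
    exact this
  refine ⟨?_, ?_⟩
  · intro i hi
    ext k l
    obtain ⟨y', hy'⟩ := hX (Pi.single l 1)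
    have := key (Pi.single l 1) i k y' hy'
    rw [if_neg hi, Matrix.mulVec_single_one] at this
    simpa using this
  · intro y
    obtain ⟨y', hy'⟩ := hX y
    have e : y' = ablk X o o *ᵥ y := by
      funext k
      have := key y o k y' hy'
      rw [if_pos rfl] at this
      exact this.symm
    rw [hy', e]

/-- (R2a) the stabiliser of `R = e_o ⊗ B` in blocks; `g⁻¹` stabilises `R` too. -/
theorem stab_blocks {o : Fin a} (g : GL (Idx a b) F)
    (hg : ∀ y : Fin b → F, ∃ y' : Fin b → F, mv g (pt (Pi.single o 1) y) = pt (Pi.single o 1) y') :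
    (∀ i : Fin a, i ≠ o → ablk (g : Matrix (Idx a b) (Idx a b) F) i o = 0) ∧
    (∀ y : Fin b → F, ∃ y' : Fin b → F,
      mv g⁻¹ (pt (Pi.single o 1) y) = pt (Pi.single o 1) y') ∧
    ablk (g : Matrix (Idx a b) (Idx a b) F) o o *
      ablk ((g⁻¹ : GL (Idx a b) F) : Matrix (Idx a b) (Idx a b) F) o o = 1 := by
  obtain ⟨h1, h2⟩ := stab_col (g : Matrix (Idx a b) (Idx a b) F) hg
  -- `γ` is injective, hence a unit
  have hinj : Function.Injective (ablk (g : Matrix (Idx a b) (Idx a b) F) o o).mulVec := by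
    intro y y' hyy
    have e1 : mv g (pt (Pi.single o 1) (y - y')) = 0 := by
      change (g : Matrix (Idx a b) (Idx a b) F) *ᵥ _ = 0
      rw [h2, Matrix.mulVec_sub]
      have : ablk (g : Matrix (Idx a b) (Idx a b) F) o o *ᵥ y =
          ablk (g : Matrix (Idx a b) (Idx a b) F) o o *ᵥ y' := hyy
      rw [this, sub_self]
      funext p
      simp [pt]
    have e2 : pt (Pi.single o (1 : F)) (y - y') = 0 := by
      have := mv_inv_mv g (pt (Pi.single o (1 : F)) (y - y'))
      rw [e1, mv_zero] at this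
      exact this.symm
    rcases (pt_eq_zero_iff _ _).1 e2 with h4 | h4
    · exfalso
      have := congrFun h4 o
      simp at this
    · exact sub_eq_zero.1 h4
  have hunit : IsUnit (ablk (g : Matrix (Idx a b) (Idx a b) F) o o) :=
    Matrix.mulVec_injective_iff_isUnit.1 hinj
  obtain ⟨γ, hγ⟩ := hunit
  have hinv : ∀ y : Fin b → F, mv g⁻¹ (pt (Pi.single o 1) y) =
      pt (Pi.single o 1) ((γ⁻¹ : (Matrix (Fin b) (Fin b) F)ˣ).1 *ᵥ y) := by
    intro y
    have e : mv g (pt (Pi.single o 1) ((γ⁻¹ : (Matrix (Fin b) (Fin b) F)ˣ).1 *ᵥ y)) =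
        pt (Pi.single o 1) y := by
      change (g : Matrix (Idx a b) (Idx a b) F) *ᵥ _ = _
      rw [h2, ← hγ, Matrix.mulVec_mulVec, ← Units.val_mul, mul_inv_cancel, Units.val_one,
        Matrix.one_mulVec]
    rw [← e, mv_inv_mv]
  have hg' : ∀ y : Fin b → F, ∃ y' : Fin b → F,
      mv g⁻¹ (pt (Pi.single o 1) y) = pt (Pi.single o 1) y' := fun y => ⟨_, hinv y⟩
  refine ⟨h1, hg', ?_⟩
  obtain ⟨h1', -⟩ := stab_col ((g⁻¹ : GL (Idx a b) F) : Matrix (Idx a b) (Idx a b) F) hg'
  have e : ablk ((g : Matrix (Idx a b) (Idx a b) F) *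
      ((g⁻¹ : GL (Idx a b) F) : Matrix (Idx a b) (Idx a b) F)) o o = 1 := by
    rw [← Units.val_mul, mul_inv_cancel, Units.val_one, ablk_one, if_pos rfl]
  rw [ablk_mul, Finset.sum_eq_single o] at e
  · exact e
  · intro m _ hm
    rw [h1' m hm, mul_zero]
  · intro ho
    exact absurd (Finset.mem_univ _) ho

/-- every vector is `∑_j e_j ⊗ v_j` -/
lemma eq_sum_pt_left (w : Idx a b → F) :
    w = ∑ j : Fin a, pt (Pi.single j (1 : F)) (fun l => w (j, l)) := by
  funext ⟨i, k⟩
  rw [Finset.sum_apply, Finset.sum_eq_single i]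
  · simp [pt]
  · intro j _ hj
    simp [pt, Ne.symm hj]
  · intro hi
    exact absurd (Finset.mem_univ _) hi

lemma fV_sum_right' {κ : Type*} (s : Finset κ) (u : Idx a b → F) (w : κ → (Idx a b → F)) :
    fV G u (∑ p ∈ s, w p) = ∑ p ∈ s, fV G u (w p) := by
  classical
  induction s using Finset.induction_on with
  | empty => simp [fV]
  | insert p s hp ih => rw [Finset.sum_insert hp, Finset.sum_insert hp, fV_add_right, ih]

/-- pairing with `e_o ⊗ u` reads off the `o'`-component -/
lemma fV_pt_single_left {o o' : Fin a} (ho : o.val = 0) (ho' : o'.val = 1) (u : Fin b → F)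
    (w : Idx a b → F) :
    fV G (pt (Pi.single o 1) u) w = fB G u (fun l => w (o', l)) := by
  conv_lhs => rw [eq_sum_pt_left w]
  rw [fV_sum_right', Finset.sum_eq_single o']
  · rw [fV_pt, sf_single_single, Jm_apply, if_pos ⟨by omega, by omega⟩, one_mul]
  · intro j _ hj
    have hjv : j.val ≠ 1 := fun e => hj (Fin.ext (by omega))
    rw [fV_pt, sf_single_single, Jm_apply, if_neg (by omega), if_neg (by omega), zero_mul]
  · intro h
    exact absurd (Finset.mem_univ _) h

/-- (R2b) a symplectic `g` stabilising `R` stabilises `R^⊥`: row `o'` of `g`; and `γᵀ G γ* = G`. -/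
theorem stab_perp_blocks (ea : Even a) (hG : Gᵀ = G) (hnd : G.det ≠ 0) {o o' : Fin a}
    (ho : o.val = 0) (ho' : o'.val = 1) (g : GL (Idx a b) F) (hS : g ∈ SpV G)
    (hg : ∀ y : Fin b → F, ∃ y' : Fin b → F, mv g (pt (Pi.single o 1) y) = pt (Pi.single o 1) y') :
    (∀ j : Fin a, j ≠ o' → ablk (g : Matrix (Idx a b) (Idx a b) F) o' j = 0) ∧
    (ablk (g : Matrix (Idx a b) (Idx a b) F) o o)ᵀ * G *
      ablk (g : Matrix (Idx a b) (Idx a b) F) o' o' = G := by
  obtain ⟨-, h2⟩ := stab_col (g : Matrix (Idx a b) (Idx a b) F) hg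
  obtain ⟨-, -, h3⟩ := stab_blocks g hg
  have key : ∀ (j : Fin a) (y y' : Fin b → F),
      fB G (ablk (g : Matrix (Idx a b) (Idx a b) F) o o *ᵥ y)
        (ablk (g : Matrix (Idx a b) (Idx a b) F) o' j *ᵥ y') = Jm a o j * fB G y y' := by
    intro j y y'
    have e := (mem_SpV.1 hS) (pt (Pi.single o 1) y) (pt (Pi.single j 1) y')
    rw [fV_pt, sf_single_single] at e
    rw [← e]
    change _ = fV G ((g : Matrix (Idx a b) (Idx a b) F) *ᵥ pt (Pi.single o 1) y)
      ((g : Matrix (Idx a b) (Idx a b) F) *ᵥ pt (Pi.single j 1) y')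
    rw [h2, fV_pt_single_left ho ho', mulVec_pt_single_left]
  refine ⟨?_, ?_⟩
  · intro j hj
    have hJ : (Jm a : Matrix (Fin a) (Fin a) F) o j = 0 := by
      have hjv : j.val ≠ 1 := fun e => hj (Fin.ext (by omega))
      rw [Jm_apply, if_neg (by omega), if_neg (by omega)]
    -- `G (D y') = 0` for all `y'`
    have hz : ∀ y' : Fin b → F, ablk (g : Matrix (Idx a b) (Idx a b) F) o' j *ᵥ y' = 0 := by
      intro y'
      have hGz : G *ᵥ (ablk (g : Matrix (Idx a b) (Idx a b) F) o' j *ᵥ y') = 0 := by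
        funext k
        have := key j (ablk ((g⁻¹ : GL (Idx a b) F) : Matrix (Idx a b) (Idx a b) F) o o *ᵥ
          Pi.single k 1) y'
        rw [Matrix.mulVec_mulVec, h3, Matrix.one_mulVec, hJ, zero_mul] at this
        unfold fB at this
        rw [single_one_dotProduct] at this
        exact this
      exact Matrix.eq_zero_of_mulVec_eq_zero hnd hGz
    ext k l
    have := congrFun (hz (Pi.single l 1)) k
    rw [Matrix.mulVec_single_one] at this
    simpa using this
  · have hJ : (Jm a : Matrix (Fin a) (Fin a) F) o o' = 1 := by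
      rw [Jm_apply, if_pos ⟨by omega, by omega⟩]
    ext k l
    have := key o' (Pi.single k 1) (Pi.single l 1)
    rw [hJ, one_mul, Cfsg.Agent.Lib.Helper18.T23.H4.SOTLeaf.fB_single_single] at this
    rw [← this]
    unfold fB
    rw [Matrix.mulVec_single_one, Matrix.mulVec_single_one, Matrix.mul_apply]
    simp only [Matrix.mul_apply, Matrix.transpose_apply, dotProduct, Matrix.mulVec, Matrix.col_apply]
    simp only [Finset.sum_mul, Finset.mul_sum]
    rw [Finset.sum_comm]
    apply Finset.sum_congr rfl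
    intro m _
    apply Finset.sum_congr rfl
    intro n _
    ring

end Cfsg.Agent.Lib.Helper18.T23.H28.SOTLALeaf
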